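import Groth.Agent.Lib.InvHilb.Mono
import Mathlib.Tactic.Linarith
import Mathlib.Data.Nat.Find

/-!
# Weight pieces generated by monomials
-/

open MvPolynomial

noncomputable section

namespace Groth.Agent.Lib.InvHilb

open W4c2invhilbsl2

universe u

variable {k : Type u} [Field k] {σ M : Type*} [AddCancelCommMonoid M] (w : σ → M)

/-- Multiples of `g` by homogeneous polynomials of weight zero. -/
def mulSub (g : MvPolynomial σ k) : Submodule k (MvPolynomial σ k) :=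
  (weightedHomogeneousSubmodule k w 0).map (LinearMap.mulRight k g)

lemma mem_mulSub_iff {g x : MvPolynomial σ k} :
    x ∈ mulSub w g ↔ ∃ a ∈ weightedHomogeneousSubmodule k w 0, a * g = x := Iff.rfl

/-- A monomial above another of the same weight is a weight-zero multiple of it. -/
lemma monomial_mem_mulSub {d e : σ →₀ ℕ} (hle : e ≤ d) (hw : Finsupp.weight w d = Finsupp.weight w e) :
    monomial d (1 : k) ∈ mulSub w (monomial e 1) := by
  obtain ⟨t, rfl⟩ := exists_add_of_le hle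
  refine ⟨monomial t 1, ?_, ?_⟩
  · refine isWeightedHomogeneous_monomial w t 1 ?_
    rw [map_add] at hw
    exact add_eq_left.1 hw
  · simp [monomial_mul, add_comm]

lemma weight_single_wt5 (p q m : ℕ) (i : Fin 5) (a : ℕ) :
    Finsupp.weight (wt5 p q m) (Finsupp.single i a) = a • wt5 p q m i := by
  rw [Finsupp.weight_single]

lemma single_le_iff' {d : σ →₀ ℕ} {i : σ} {a : ℕ} (h : a ≤ d i) : Finsupp.single i a ≤ d :=
  Finsupp.single_le_iff.2 h

lemma add_single_le {d : σ →₀ ℕ} {i j : σ} (hij : i ≠ j) {a b : ℕ} (hi : a ≤ d i) (hj : b ≤ d j) :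
    Finsupp.single i a + Finsupp.single j b ≤ d := by
  classical
  intro l
  rw [Finsupp.add_apply, Finsupp.single_apply, Finsupp.single_apply]
  split_ifs with h1 h2 h2
  · exact absurd (h1.trans h2.symm) hij
  · subst h1; omega
  · subst h2; omega
  · omega

lemma le_f3 {d : Fin 3 →₀ ℕ} {a b c : ℕ} (h0 : a ≤ d 0) (h1 : b ≤ d 1) (h2 : c ≤ d 2) : f3 a b c ≤ d := by
  intro l
  fin_cases l <;> simpa [f3]

lemma weight_f3 (p q m a b c : ℕ) :
    Finsupp.weight (wt3 p q m) (f3 a b c) =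
      ((a : ℤ) - p * b + q * c, (((c : ℤ) - b : ℤ) : ZMod m)) := by
  rw [weight_wt3]; simp [f3]

omit [AddCancelCommMonoid M] in
lemma cast_zero_iff_dvd (m : ℕ) (a : ℤ) : (a : ZMod m) = 0 ↔ (m : ℤ) ∣ a :=
  ZMod.intCast_zmod_eq_zero_iff_dvd a m

/-- The weight-`(q-p, 0)` piece in three variables. -/
theorem piece_qp_three (p q m : ℕ) (hp : 0 < p) (hpq : p < q) (f : MvPolynomial (Fin 3) k)
    (hf : f ∈ weightedHomogeneousSubmodule k (wt3 p q m) ((q : ℤ) - (p : ℤ), (0 : ZMod m))) :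
    ∃ a b : MvPolynomial (Fin 3) k, a ∈ weightedHomogeneousSubmodule k (wt3 p q m) 0 ∧
      b ∈ weightedHomogeneousSubmodule k (wt3 p q m) 0 ∧
      f = a * X (0 : Fin 3) ^ (q - p) + b * (X (1 : Fin 3) * X (2 : Fin 3)) := by
  have hmem : f ∈ mulSub (wt3 p q m) (monomial (f3 (q - p) 0 0) (1 : k)) ⊔
      mulSub (wt3 p q m) (monomial (f3 0 1 1) (1 : k)) := by
    refine mem_of_monomials _ hf _ fun d hd => ?_
    have hd' := hd
    rw [weight_wt3, Prod.ext_iff] at hd'
    by_cases h : 1 ≤ d 1 ∧ 1 ≤ d 2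
    · refine Submodule.mem_sup_right (monomial_mem_mulSub _ (le_f3 (Nat.zero_le _) h.1 h.2) ?_)
      rw [hd, weight_f3]
      refine Prod.ext ?_ ?_ <;> simp <;> ring
    · refine Submodule.mem_sup_left (monomial_mem_mulSub _ (le_f3 ?_ (Nat.zero_le _) (Nat.zero_le _)) ?_)
      · rcases not_and_or.1 h with h1 | h2
        · have e1 : d 1 = 0 := by omega
          rcases Nat.eq_zero_or_pos (d 2) with e2 | e2
          · have := hd'.1; simp [e1, e2] at this; omega
          · have h3 := hd'.1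
            simp only [e1, Nat.cast_zero, mul_zero, sub_zero] at h3
            nlinarith [mul_le_mul_of_nonneg_left (show (1 : ℤ) ≤ d 2 by exact_mod_cast e2)
              (Int.natCast_nonneg q)]
        · have e2 : d 2 = 0 := by omega
          have h3 := hd'.1
          simp only [e2, Nat.cast_zero, mul_zero, add_zero] at h3
          have := mul_nonneg (Int.natCast_nonneg p) (Int.natCast_nonneg (d 1))
          omega
      · rw [hd, weight_f3, Nat.cast_sub hpq.le]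
        simp
  obtain ⟨_, ⟨a, ha, rfl⟩, _, ⟨b, hb, rfl⟩, rfl⟩ := Submodule.mem_sup.1 hmem
  exact ⟨a, b, ha, hb, by simp [monomial_f3, LinearMap.mulRight_apply, mul_assoc]⟩

section five

variable (k) (p q m : ℕ)

/-- The equation of the hypersurface. -/
def hyp : Ideal (MvPolynomial (Fin 5) k) :=
  Ideal.span {X (0 : Fin 5) ^ (q - p) - X 1 * X 4 + X 2 * X 3}

/-- The monomial with prescribed exponents. -/
abbrev f5 (a b c d e : ℕ) : Fin 5 →₀ ℕ :=
  Finsupp.single 0 a + Finsupp.single 1 b + Finsupp.single 2 c + Finsupp.single 3 d + Finsupp.single 4 e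

variable {k p q m}

lemma monomial_f5 (a b c d e : ℕ) :
    monomial (f5 a b c d e) (1 : k) = X 0 ^ a * X 1 ^ b * X 2 ^ c * X 3 ^ d * X 4 ^ e := by
  simp [X_pow_eq_monomial, monomial_mul]

lemma le_f5 {v : Fin 5 →₀ ℕ} {a b c d e : ℕ} (h0 : a ≤ v 0) (h1 : b ≤ v 1) (h2 : c ≤ v 2) (h3 : d ≤ v 3)
    (h4 : e ≤ v 4) : f5 a b c d e ≤ v := by
  intro l
  fin_cases l <;> simpa [f5]

lemma weight_f5 (a b c d e : ℕ) :
    Finsupp.weight (wt5 p q m) (f5 a b c d e) =
      ((a : ℤ) - p * (b + c : ℕ) + q * (d + e : ℕ), ((((d + e : ℕ) : ℤ) - (b + c : ℕ) : ℤ) : ZMod m)) := by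
  rw [weight_wt5]; simp [f5]

/-- Trade `X₀^(q-p)` for `X₁X₄ - X₂X₃`. -/
lemma monomial_trade {d : Fin 5 →₀ ℕ} (hd : q - p ≤ d 0)
    (S : Submodule k (MvPolynomial (Fin 5) k)) (hS : (hyp k p q).restrictScalars k ≤ S)
    (h14 : monomial (d - Finsupp.single 0 (q - p) + (Finsupp.single 1 1 + Finsupp.single 4 1)) 1 ∈ S)
    (h23 : monomial (d - Finsupp.single 0 (q - p) + (Finsupp.single 2 1 + Finsupp.single 3 1)) 1 ∈ S) :
    monomial d (1 : k) ∈ S := by
  obtain ⟨t, rfl⟩ : ∃ t, d = t + Finsupp.single 0 (q - p) :=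
    ⟨d - Finsupp.single 0 (q - p), (tsub_add_cancel_of_le (single_le_iff' hd)).symm⟩
  rw [add_tsub_cancel_right] at h14 h23
  have hP : monomial t (1 : k) * (X (0 : Fin 5) ^ (q - p) - X 1 * X 4 + X 2 * X 3) ∈ S :=
    hS (Ideal.mul_mem_left _ _ (Ideal.subset_span rfl))
  have e14 : monomial (t + (Finsupp.single 1 1 + Finsupp.single 4 1)) (1 : k) =
      monomial t 1 * (X (1 : Fin 5) * X 4) := by
    rw [X, X, monomial_mul, monomial_mul]; simp
  have e23 : monomial (t + (Finsupp.single 2 1 + Finsupp.single 3 1)) (1 : k) =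
      monomial t 1 * (X (2 : Fin 5) * X 3) := by
    rw [X, X, monomial_mul, monomial_mul]; simp
  rw [e14] at h14
  rw [e23] at h23
  have : monomial (t + Finsupp.single 0 (q - p)) (1 : k) =
      monomial t 1 * (X (0 : Fin 5) ^ (q - p) - X 1 * X 4 + X 2 * X 3) +
        monomial t 1 * (X (1 : Fin 5) * X 4) - monomial t 1 * (X (2 : Fin 5) * X 3) := by
    rw [X_pow_eq_monomial, ← monomial_mul_one_eq]
    ring
  rw [this]
  exact sub_mem (add_mem hP h14) h23
where
  monomial_mul_one_eq {s t : Fin 5 →₀ ℕ} : monomial s (1 : k) * monomial t 1 = monomial (s + t) 1 := by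
    rw [monomial_mul, mul_one]

lemma weight_trade (hpq : p ≤ q) {d : Fin 5 →₀ ℕ} (hd : q - p ≤ d 0) (i j : Fin 5)
    (hij : (i = 1 ∧ j = 4) ∨ (i = 2 ∧ j = 3)) :
    Finsupp.weight (wt5 p q m) (d - Finsupp.single 0 (q - p) + (Finsupp.single i 1 + Finsupp.single j 1)) =
      Finsupp.weight (wt5 p q m) d := by
  obtain ⟨t, rfl⟩ : ∃ t, d = t + Finsupp.single 0 (q - p) :=
    ⟨d - Finsupp.single 0 (q - p), (tsub_add_cancel_of_le (single_le_iff' hd)).symm⟩
  rw [add_tsub_cancel_right, map_add, map_add (Finsupp.weight (wt5 p q m)) t]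
  congr 1
  rw [map_add, Finsupp.weight_single, Finsupp.weight_single, Finsupp.weight_single]
  rcases hij with ⟨rfl, rfl⟩ | ⟨rfl, rfl⟩ <;>
    simp [wt5, Nat.cast_sub hpq] <;> ring

/-- The pieces of the weights of `X₁` and `X₃`. -/
theorem piece_X1_X3 (hp : 0 < p) (hpq : p < q) (f : MvPolynomial (Fin 5) k) :
    (f ∈ weightedHomogeneousSubmodule k (wt5 p q m) (wt5 p q m 1) →
      ∃ a b : MvPolynomial (Fin 5) k, a ∈ weightedHomogeneousSubmodule k (wt5 p q m) 0 ∧
        b ∈ weightedHomogeneousSubmodule k (wt5 p q m) 0 ∧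
        f - (a * X (1 : Fin 5) + b * X (2 : Fin 5)) ∈ hyp k p q) ∧
    (f ∈ weightedHomogeneousSubmodule k (wt5 p q m) (wt5 p q m 3) →
      ∃ a b : MvPolynomial (Fin 5) k, a ∈ weightedHomogeneousSubmodule k (wt5 p q m) 0 ∧
        b ∈ weightedHomogeneousSubmodule k (wt5 p q m) 0 ∧
        f - (a * X (3 : Fin 5) + b * X (4 : Fin 5)) ∈ hyp k p q) := by
  have hunpack : ∀ i j : Fin 5,
      f ∈ mulSub (wt5 p q m) (X i) ⊔ mulSub (wt5 p q m) (X j) ⊔ (hyp k p q).restrictScalars k →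
      ∃ a b : MvPolynomial (Fin 5) k, a ∈ weightedHomogeneousSubmodule k (wt5 p q m) 0 ∧
        b ∈ weightedHomogeneousSubmodule k (wt5 p q m) 0 ∧
        f - (a * X i + b * X j) ∈ hyp k p q := by
    intro i j h
    obtain ⟨_, h12, r, hr, rfl⟩ := Submodule.mem_sup.1 h
    obtain ⟨_, ⟨a, ha, rfl⟩, _, ⟨b, hb, rfl⟩, rfl⟩ := Submodule.mem_sup.1 h12
    exact ⟨a, b, ha, hb, by simpa using hr⟩
  have hX : ∀ (d : Fin 5 →₀ ℕ) (i : Fin 5), 1 ≤ d i →
      Finsupp.weight (wt5 p q m) d = wt5 p q m i → monomial d (1 : k) ∈ mulSub (wt5 p q m) (X i) := by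
    intro d i hi hw
    exact monomial_mem_mulSub _ (single_le_iff' hi) (by rw [hw, Finsupp.weight_single, one_smul])
  constructor
  · intro hf
    refine hunpack 1 2 (Submodule.mem_sup_left (mem_of_monomials _ hf _ fun d hd => ?_))
    have hd' := hd
    rw [weight_wt5, Prod.ext_iff] at hd'
    simp [wt5] at hd'
    by_cases h1 : 1 ≤ d 1
    · exact Submodule.mem_sup_left (hX d 1 h1 hd)
    by_cases h2 : 1 ≤ d 2
    · exact Submodule.mem_sup_right (hX d 2 h2 (hd.trans (by simp [wt5])))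
    exfalso
    have e1 : d 1 = 0 := by omega
    have e2 : d 2 = 0 := by omega
    simp [e1, e2] at hd'
    nlinarith [mul_nonneg (Int.natCast_nonneg q) (Int.natCast_nonneg (d 3)),
      mul_nonneg (Int.natCast_nonneg q) (Int.natCast_nonneg (d 4))]
  · intro hf
    refine hunpack 3 4 (mem_of_monomials _ hf _ fun d hd => ?_)
    have key : ∀ d, Finsupp.weight (wt5 p q m) d = wt5 p q m 3 → 1 ≤ d 3 ∨ 1 ≤ d 4 →
        monomial d (1 : k) ∈ mulSub (wt5 p q m) (X 3) ⊔ mulSub (wt5 p q m) (X 4) ⊔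
          (hyp k p q).restrictScalars k := by
      intro d hd h
      rcases h with h | h
      · exact Submodule.mem_sup_left (Submodule.mem_sup_left (hX d 3 h hd))
      · exact Submodule.mem_sup_left (Submodule.mem_sup_right (hX d 4 h (hd.trans (by simp [wt5]))))
    by_cases h : 1 ≤ d 3 ∨ 1 ≤ d 4
    · exact key d hd h
    have hd' := hd
    rw [weight_wt5, Prod.ext_iff] at hd'
    have e3 : d 3 = 0 := by omega
    have e4 : d 4 = 0 := by omega
    simp [wt5, e3, e4] at hd'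
    have h0 : q - p ≤ d 0 := by
      zify [hpq.le]
      nlinarith [mul_nonneg (Int.natCast_nonneg p) (Int.natCast_nonneg (d 1)),
        mul_nonneg (Int.natCast_nonneg p) (Int.natCast_nonneg (d 2))]
    refine monomial_trade h0 _ le_sup_right (key _ ((weight_trade hpq.le h0 1 4 (Or.inl ⟨rfl, rfl⟩)).trans hd) (Or.inr ?_))
      (key _ ((weight_trade hpq.le h0 2 3 (Or.inr ⟨rfl, rfl⟩)).trans hd) (Or.inl ?_)) <;> simp

/-- The weight-`(q-p, 0)` piece in five variables. -/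
theorem piece_qp_five (hp : 0 < p) (hpq : p < q) (f : MvPolynomial (Fin 5) k)
    (hf : f ∈ weightedHomogeneousSubmodule k (wt5 p q m) ((q : ℤ) - (p : ℤ), (0 : ZMod m))) :
    ∃ a₁₃ a₁₄ a₂₃ a₂₄ : MvPolynomial (Fin 5) k,
      a₁₃ ∈ weightedHomogeneousSubmodule k (wt5 p q m) 0 ∧ a₁₄ ∈ weightedHomogeneousSubmodule k (wt5 p q m) 0 ∧
      a₂₃ ∈ weightedHomogeneousSubmodule k (wt5 p q m) 0 ∧ a₂₄ ∈ weightedHomogeneousSubmodule k (wt5 p q m) 0 ∧
      f - (a₁₃ * (X (1 : Fin 5) * X 3) + a₁₄ * (X (1 : Fin 5) * X 4) +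
          a₂₃ * (X (2 : Fin 5) * X 3) + a₂₄ * (X (2 : Fin 5) * X 4)) ∈ hyp k p q := by
  set S := mulSub (wt5 p q m) (X 1 * X 3 : MvPolynomial (Fin 5) k) ⊔ mulSub (wt5 p q m) (X 1 * X 4) ⊔
    mulSub (wt5 p q m) (X 2 * X 3) ⊔ mulSub (wt5 p q m) (X 2 * X 4) ⊔ (hyp k p q).restrictScalars k
  have key : ∀ d, Finsupp.weight (wt5 p q m) d = ((q : ℤ) - (p : ℤ), (0 : ZMod m)) →
      1 ≤ d 1 + d 2 → 1 ≤ d 3 + d 4 → monomial d (1 : k) ∈ S := by
    intro d hd h12 h34
    have hm : ∀ i j : Fin 5, i ≠ j → 1 ≤ d i → 1 ≤ d j →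
        wt5 p q m i + wt5 p q m j = ((q : ℤ) - (p : ℤ), (0 : ZMod m)) →
        monomial d (1 : k) ∈ mulSub (wt5 p q m) (X i * X j) := by
      intro i j hij hi hj hw
      rw [show (X i * X j : MvPolynomial (Fin 5) k) = monomial (Finsupp.single i 1 + Finsupp.single j 1) 1 by
        rw [X, X, monomial_mul, mul_one]]
      refine monomial_mem_mulSub _ (add_single_le hij hi hj) ?_
      rw [hd, map_add, Finsupp.weight_single, Finsupp.weight_single, one_smul, one_smul, hw]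
    by_cases h1 : 1 ≤ d 1
    · by_cases h3 : 1 ≤ d 3
      · exact Submodule.mem_sup_left (Submodule.mem_sup_left (Submodule.mem_sup_left (Submodule.mem_sup_left
          (hm 1 3 (by decide) h1 h3 (by simp [wt5]; ring)))))
      · exact Submodule.mem_sup_left (Submodule.mem_sup_left (Submodule.mem_sup_left (Submodule.mem_sup_right
          (hm 1 4 (by decide) h1 (by omega) (by simp [wt5]; ring)))))
    · by_cases h3 : 1 ≤ d 3
      · exact Submodule.mem_sup_left (Submodule.mem_sup_left (Submodule.mem_sup_right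
          (hm 2 3 (by decide) (by omega) h3 (by simp [wt5]; ring))))
      · exact Submodule.mem_sup_left (Submodule.mem_sup_right
          (hm 2 4 (by decide) (by omega) (by omega) (by simp [wt5]; ring)))
  have hmem : f ∈ S := mem_of_monomials _ hf _ fun d hd => by
    by_cases h : 1 ≤ d 1 + d 2 ∧ 1 ≤ d 3 + d 4
    · exact key d hd h.1 h.2
    have hd' := hd
    rw [weight_wt5, Prod.ext_iff] at hd'
    have h0 : q - p ≤ d 0 := by
      rcases Nat.eq_zero_or_pos (d 3 + d 4) with hv | hv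
      · have h1 := hd'.1
        simp only [hv, Nat.cast_zero, mul_zero, add_zero] at h1
        have := mul_nonneg (Int.natCast_nonneg p) (Int.natCast_nonneg (d 1 + d 2))
        omega
      · have hu : d 1 + d 2 = 0 := by omega
        have h1 := hd'.1
        simp only [hu, Nat.cast_zero, mul_zero, sub_zero] at h1
        exfalso
        nlinarith [mul_le_mul_of_nonneg_left (show (1 : ℤ) ≤ (d 3 + d 4 : ℕ) by exact_mod_cast hv)
          (Int.natCast_nonneg q)]
    refine monomial_trade h0 _ le_sup_right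
      (key _ ((weight_trade hpq.le h0 1 4 (Or.inl ⟨rfl, rfl⟩)).trans hd) ?_ ?_)
      (key _ ((weight_trade hpq.le h0 2 3 (Or.inr ⟨rfl, rfl⟩)).trans hd) ?_ ?_) <;> simp <;> omega
  obtain ⟨_, h1, r, hr, rfl⟩ := Submodule.mem_sup.1 hmem
  obtain ⟨_, h2, _, ⟨d, hd, rfl⟩, rfl⟩ := Submodule.mem_sup.1 h1
  obtain ⟨_, h3, _, ⟨c, hc, rfl⟩, rfl⟩ := Submodule.mem_sup.1 h2
  obtain ⟨_, ⟨a, ha, rfl⟩, _, ⟨b, hb, rfl⟩, rfl⟩ := Submodule.mem_sup.1 h3
  exact ⟨a, b, c, d, ha, hb, hc, hd, by simpa [mul_assoc] using hr⟩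

/-- The quotient by `idealI` has weight pieces of rank at most one. -/
theorem rank_idealI (hp : 0 < p) (hpq : p < q) (s : k) (ν : ℤ × ZMod m) :
    Module.rank k (piece k (wt5 p q m) (idealI k p q m s) ν) ≤ 1 := by
  classical
  set I := idealI k p q m s
  set π := Ideal.Quotient.mk I
  have h2 : π (X 2) = 0 := Ideal.Quotient.eq_zero_iff_mem.2 (Ideal.subset_span (by simp))
  have h3 : π (X 3) = 0 := Ideal.Quotient.eq_zero_iff_mem.2 (Ideal.subset_span (by simp))
  have hA : π (X 0 ^ (q - p) - X 1 * X 4) = 0 :=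
    Ideal.Quotient.eq_zero_iff_mem.2 (Ideal.subset_span (by simp))
  have hU : π (C s - X 0 ^ (m * p) * X 1 ^ m) = 0 :=
    Ideal.Quotient.eq_zero_iff_mem.2 (Ideal.subset_span (by simp))
  simp only [map_sub, map_mul, map_pow, sub_eq_zero] at hA hU
  by_cases hne : ∃ d : Fin 5 →₀ ℕ, Finsupp.weight (wt5 p q m) d = ν ∧ d 2 = 0 ∧ d 3 = 0
  swap
  · refine rank_piece_le_one _ _ _ 0 fun d hd => ?_
    have : π (monomial d 1) = 0 := by
      rw [monomial_eq5]
      push Not at hne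
      rcases Nat.eq_zero_or_pos (d 2) with e2 | e2
      · simp [h3, zero_pow (hne d hd e2)]
      · simp [h2, zero_pow e2.ne']
    show π (monomial d 1) ∈ _
    rw [this]
    exact zero_mem _
  -- minimise `c = d₁ - d₄`, bounded below
  obtain ⟨d₀, hd₀, h02, h03⟩ := hne
  have hbound : ∀ d : Fin 5 →₀ ℕ, Finsupp.weight (wt5 p q m) d = ν → d 2 = 0 → d 3 = 0 →
      -ν.1.natAbs ≤ (d 1 : ℤ) - d 4 := by
    intro d hd e2 e3
    have h := congrArg Prod.fst hd
    simp [weight_wt5, e2, e3] at h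
    by_contra hcon
    push Not at hcon
    have h4 : ν.1.natAbs + 1 ≤ (d 4 : ℤ) - d 1 := by omega
    have h5 : (1 : ℤ) ≤ q := by exact_mod_cast hp.trans hpq
    have h6 : (0 : ℤ) ≤ ((q : ℤ) - p) * d 1 :=
      mul_nonneg (by omega) (Int.natCast_nonneg _)
    nlinarith [mul_le_mul h5 h4 (by positivity) (Int.natCast_nonneg q), Int.le_natAbs (a := ν.1)]
  let val : ℕ → Prop := fun j => ∃ d : Fin 5 →₀ ℕ, Finsupp.weight (wt5 p q m) d = ν ∧ d 2 = 0 ∧
    d 3 = 0 ∧ (d 1 : ℤ) - d 4 = -ν.1.natAbs + j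
  have hval : ∃ j, val j := ⟨_, d₀, hd₀, h02, h03,
    (show (d₀ 1 : ℤ) - d₀ 4 = -ν.1.natAbs + ((d₀ 1 : ℤ) - d₀ 4 + ν.1.natAbs).toNat by
      have := hbound d₀ hd₀ h02 h03; omega)⟩
  obtain ⟨e, he, e2, e3, hej⟩ := Nat.find_spec hval
  refine rank_piece_le_one _ _ _ (π (monomial e 1)) fun d hd => ?_
  show π (monomial d 1) ∈ _
  by_cases h : d 2 = 0 ∧ d 3 = 0
  swap
  · have : π (monomial d 1) = 0 := by
      rw [monomial_eq5]
      rcases not_and_or.1 h with h | h
      · simp [h2, zero_pow h]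
      · simp [h3, zero_pow h]
    rw [this]; exact zero_mem _
  have hmin : (e 1 : ℤ) - e 4 ≤ (d 1 : ℤ) - d 4 := by
    have hb := hbound d hd h.1 h.2
    have := Nat.find_min' hval (m := ((d 1 : ℤ) - d 4 + ν.1.natAbs).toNat) ⟨d, hd, h.1, h.2, by omega⟩
    omega
  have hw := he.trans hd.symm
  rw [weight_wt5, weight_wt5, Prod.ext_iff, ZMod.intCast_eq_intCast_iff_dvd_sub] at hw
  simp [e2, e3, h.1, h.2] at hw
  obtain ⟨j, hj⟩ := hw.2
  rcases Nat.eq_zero_or_pos m with rfl | hm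
  · have hk := pow_mul_eq (π (X 0)) (π (X 1)) (π (X 4)) (π (C s)) p q 0 hp hpq hA 0 (Or.inl rfl)
      (d 0) (d 1) (d 4) (e 0) (e 1) (e 4) hw.1 (by simp at hj ⊢; linarith)
    have : π (monomial d 1) = π (monomial e 1) := by
      rw [monomial_eq5, monomial_eq5]; simpa [h.1, h.2, e2, e3] using hk
    rw [this]; exact Submodule.mem_span_singleton_self _
  have hj' : (d 1 : ℤ) - d 4 = e 1 - e 4 + m * (-j) := by linarith
  have hj0 : 0 ≤ -j := by
    by_contra hj0
    have := mul_le_mul_of_nonneg_left (show -j ≤ -1 by omega) (Int.natCast_nonneg m)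
    omega
  obtain ⟨l, hl⟩ := Int.eq_ofNat_of_zero_le hj0
  have hk := pow_mul_eq (π (X 0)) (π (X 1)) (π (X 4)) (π (C s)) p q m hp hpq hA l (Or.inr hU.symm)
    (d 0) (d 1) (d 4) (e 0) (e 1) (e 4) hw.1 (by rw [← hl]; exact hj')
  refine Submodule.mem_span_singleton.2 ⟨s ^ l, ?_⟩
  show s ^ l • Ideal.Quotient.mkₐ k I (monomial e 1) = π (monomial d 1)
  rw [← map_smul, smul_eq_C_mul]
  show π (C (s ^ l) * monomial e 1) = _
  rw [map_mul, map_pow C, map_pow π, monomial_eq5, monomial_eq5]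
  simpa [h.1, h.2, e2, e3] using hk.symm

/-- The quotient by `idealJ` has weight pieces of rank at most one. -/
theorem rank_idealJ (hp : 0 < p) (hpq : p < q) (hcop : Nat.Coprime p q) (hm : 0 < m) (s : k) (ν : ℤ × ZMod m) :
    Module.rank k (piece k (wt5 p q m) (idealJ k p q m s) ν) ≤ 1 := by
  classical
  set I := idealJ k p q m s
  set π := Ideal.Quotient.mk I
  set g := Nat.gcd m (q - p)
  set a := m / g
  have h0 : π (X 0) ^ g = 0 := by
    rw [← map_pow]; exact Ideal.Quotient.eq_zero_iff_mem.2 (Ideal.subset_span (by simp [g]))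
  have h2 : π (X 2) = 0 := Ideal.Quotient.eq_zero_iff_mem.2 (Ideal.subset_span (by simp))
  have h4 : π (X 4) = 0 := Ideal.Quotient.eq_zero_iff_mem.2 (Ideal.subset_span (by simp))
  have hT : π (C s - X 1 ^ (a * q) * X 3 ^ (a * p)) = 0 :=
    Ideal.Quotient.eq_zero_iff_mem.2 (Ideal.subset_span (by simp [a, g]))
  simp only [map_sub, map_mul, map_pow, sub_eq_zero] at hT
  let good : (Fin 5 →₀ ℕ) → Prop := fun d =>
    Finsupp.weight (wt5 p q m) d = ν ∧ d 2 = 0 ∧ d 4 = 0 ∧ d 0 < g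
  have hbad : ∀ d : Fin 5 →₀ ℕ, Finsupp.weight (wt5 p q m) d = ν → ¬ good d → π (monomial d 1) = 0 := by
    intro d hd hg
    simp only [good, hd, true_and, not_and_or, not_lt] at hg
    rw [monomial_eq5]
    rcases hg with h | h | h
    · simp [h2, zero_pow h]
    · simp [h4, zero_pow h]
    · obtain ⟨r, hr⟩ := Nat.exists_eq_add_of_le h
      simp [hr, pow_add, h0]
  by_cases hne : ∃ j, ∃ d : Fin 5 →₀ ℕ, good d ∧ d 1 = j
  swap
  · refine rank_piece_le_one _ _ _ 0 fun d hd => ?_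
    show π (monomial d 1) ∈ _
    rw [hbad d hd fun h => hne ⟨_, d, h, rfl⟩]
    exact zero_mem _
  obtain ⟨e, ⟨hew, e2, e4, e0⟩, he1⟩ := Nat.find_spec hne
  refine rank_piece_le_one _ _ _ (π (monomial e 1)) fun d hd => ?_
  show π (monomial d 1) ∈ _
  by_cases h : good d
  swap
  · rw [hbad d hd h]; exact zero_mem _
  obtain ⟨hdw, d2, d4, d0⟩ := h
  have hmin : e 1 ≤ d 1 := he1.trans_le (Nat.find_min' hne ⟨d, ⟨hdw, d2, d4, d0⟩, rfl⟩)
  have hw := hdw.trans hew.symm
  rw [weight_wt5, weight_wt5, Prod.ext_iff, ZMod.intCast_eq_intCast_iff_dvd_sub] at hw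
  simp [e2, e4, d2, d4] at hw
  obtain ⟨h00, i, h11, h33⟩ := exists_shift p q m hp hpq hcop hm (e 0) (e 1) (e 3) (d 0) (d 1) (d 3) hw.1
    (by
      obtain ⟨c, hc⟩ := hw.2
      exact ⟨-c, by linarith⟩) e0 d0
  have hi : 0 ≤ i := by
    by_contra hi
    have hg0 : 0 < g := Nat.gcd_pos_of_pos_left _ hm
    have ha : 0 < a := Nat.div_pos (Nat.le_of_dvd hm (Nat.gcd_dvd_left _ _)) hg0
    have : ((a * q : ℕ) : ℤ) * i < 0 :=
      mul_neg_of_pos_of_neg (by exact_mod_cast Nat.mul_pos ha (hp.trans hpq)) (not_le.1 hi)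
    have h11a : (d 1 : ℤ) = e 1 + ((a * q : ℕ) : ℤ) * i := h11
    have : (e 1 : ℤ) ≤ d 1 := by exact_mod_cast hmin
    linarith
  obtain ⟨l, rfl⟩ := Int.eq_ofNat_of_zero_le hi
  have h11' : d 1 = e 1 + a * q * l := by exact_mod_cast h11
  have h33' : d 3 = e 3 + a * p * l := by exact_mod_cast h33
  refine Submodule.mem_span_singleton.2 ⟨s ^ l, ?_⟩
  show s ^ l • Ideal.Quotient.mkₐ k I (monomial e 1) = π (monomial d 1)
  rw [← map_smul, smul_eq_C_mul]
  show π (C (s ^ l) * monomial e 1) = _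
  rw [map_mul, map_pow C, map_pow π, monomial_eq5, monomial_eq5, hT]
  simp [d2, d4, e2, e4, h11', h33', h00, pow_add, pow_mul, mul_pow]
  ring

end five

end Groth.Agent.Lib.InvHilb
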