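import Groth.Prelude.Def_W4c2invhilbsl2HJ
import Groth.Prelude.Def_W4c2conddiscmodels
import Groth.Agent.H68.HJ
import Groth.Agent.Lib.InvHilb.Pieces
import Mathlib.Tactic.Linarith
import Mathlib.Tactic.LinearCombination

/-!
# Arithmetic of the Hirzebruch–Jung expansion of `b/t`
-/

noncomputable section

namespace Groth.Agent.Lib.InvHilb

open W4c2invhilbsl2

lemma emod_eq_of_decomp {D r k : ℤ} (h0 : 0 ≤ r) (h1 : r < D) : (r + D * k) % D = r := by
  rw [Int.add_mul_emod_self_left, Int.emod_eq_of_lt h0 h1]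

/-- The standing hypotheses. -/
structure Setup where
  /-- first parameter -/
  p : ℕ
  /-- second parameter -/
  q : ℕ
  /-- order of the group -/
  m : ℕ
  /-- the digits -/
  c : List ℤ
  hp : 0 < p
  hpq : p < q
  hcop : Nat.Coprime p q
  hm : 0 < m
  hnt : ¬ (q - p ∣ m)
  hc : IsHJDigits p q m c

namespace Setup

variable (S : Setup)

/-- `q - p` -/
abbrev D : ℤ := (S.q : ℤ) - S.p
/-- `g` -/
abbrev g : ℤ := (gcdK S.p S.q S.m : ℤ)
/-- `b` -/
abbrev b : ℤ := (bB S.p S.q S.m : ℤ)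
/-- `t` -/
abbrev t : ℤ := (tT S.p S.q S.m : ℤ)
/-- `α + 1` -/
abbrev a1 : ℤ := (alpha S.p S.q S.m : ℤ) + 1
/-- `Pᵢ` -/
abbrev P (i : ℕ) : ℤ := hjP S.c i
/-- `Qᵢ` -/
abbrev Q (i : ℕ) : ℤ := hjQ S.c i
/-- `tᵢ` -/
abbrev u (i : ℕ) : ℤ := S.t * S.P i - S.b * S.Q i
/-- `r` -/
abbrev r : ℕ := S.c.length

lemma gK_pos : 0 < gcdK S.p S.q S.m := Nat.gcd_pos_of_pos_left _ S.hm

lemma g_pos : 0 < S.g := by exact_mod_cast S.gK_pos

lemma D_pos : 0 < S.D := sub_pos.2 (by exact_mod_cast S.hpq)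

lemma g_dvd : gcdK S.p S.q S.m ∣ S.q - S.p := Nat.gcd_dvd_right _ _

lemma g_dvd_rem : gcdK S.p S.q S.m ∣ S.q - S.p - S.m * S.p % (S.q - S.p) :=
  Nat.dvd_sub S.g_dvd
    ((Nat.dvd_mod_iff S.g_dvd).2 ((Nat.gcd_dvd_left S.m (S.q - S.p)).mul_right _))

lemma g_mul_b : S.g * S.b = S.D := by
  rw [show S.D = ((S.q - S.p : ℕ) : ℤ) from (Nat.cast_sub S.hpq.le).symm]
  unfold g b
  rw [← Nat.cast_mul]
  congr 1
  exact Nat.mul_div_cancel' S.g_dvd

lemma g_mul_t : S.g * S.t = S.D * S.a1 - S.p * S.m := by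
  have hlt : S.m * S.p % (S.q - S.p) ≤ S.q - S.p := (Nat.mod_lt _ (Nat.sub_pos_of_lt S.hpq)).le
  have h1 : gcdK S.p S.q S.m * tT S.p S.q S.m = S.q - S.p - S.m * S.p % (S.q - S.p) :=
    Nat.mul_div_cancel' S.g_dvd_rem
  have h2 := Nat.div_add_mod (S.m * S.p) (S.q - S.p)
  have h1' : S.g * S.t = ((S.q - S.p : ℕ) : ℤ) - (S.m * S.p % (S.q - S.p) : ℕ) := by
    rw [← Nat.cast_sub hlt, ← h1]; push_cast; rfl
  have h2' : ((S.q - S.p : ℕ) : ℤ) * (alpha S.p S.q S.m : ℤ) + (S.m * S.p % (S.q - S.p) : ℕ) =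
      (S.m : ℤ) * S.p := by exact_mod_cast h2
  rw [Nat.cast_sub S.hpq.le] at h1' h2'
  unfold D a1
  linarith

lemma t_pos : 0 < tT S.p S.q S.m := by
  have hlt : S.m * S.p % (S.q - S.p) < S.q - S.p := Nat.mod_lt _ (Nat.sub_pos_of_lt S.hpq)
  exact Nat.div_pos (Nat.le_of_dvd (Nat.sub_pos_of_lt hlt) S.g_dvd_rem) S.gK_pos

lemma b_pos : 0 < S.b := by
  have := S.g_mul_b
  have := S.D_pos
  by_contra h
  have := mul_nonpos_of_nonneg_of_nonpos S.g_pos.le (not_lt.1 h)
  linarith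

lemma r_pos : 1 ≤ S.r := by
  rcases Nat.eq_zero_or_pos S.c.length with h | h
  · exfalso
    have h1 := S.hc.2
    rw [List.length_eq_zero_iff] at h
    rw [h, HJFrac.hjVal, eq_comm, div_eq_zero_iff] at h1
    have hb : 0 < bB S.p S.q S.m := by exact_mod_cast S.b_pos
    have ht := S.t_pos
    rcases h1 with h1 | h1 <;> simp at h1 <;> omega
  · exact h

lemma coprime_t_b : Nat.Coprime (tT S.p S.q S.m) (bB S.p S.q S.m) := by
  rw [← Nat.isCoprime_iff_coprime]
  have hg0 := S.g_pos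
  obtain ⟨m', hm'⟩ : gcdK S.p S.q S.m ∣ S.m := Nat.gcd_dvd_left _ _
  have hmb : Nat.Coprime m' (bB S.p S.q S.m) := by
    have := Nat.coprime_div_gcd_div_gcd (m := S.m) (n := S.q - S.p) S.gK_pos
    have e : S.m / Nat.gcd S.m (S.q - S.p) = m' := by
      show S.m / gcdK S.p S.q S.m = m'
      conv_lhs => arg 1; rw [hm']
      exact Nat.mul_div_cancel_left _ S.gK_pos
    rwa [e] at this
  have hpb : Nat.Coprime S.p (bB S.p S.q S.m) := by
    refine Nat.Coprime.coprime_dvd_right (Nat.div_dvd_of_dvd S.g_dvd) ?_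
    exact (Nat.coprime_sub_self_right S.hpq.le).2 S.hcop
  have ht : S.t = -((S.p : ℤ) * m') + S.b * S.a1 := by
    refine mul_left_cancel₀ S.g_pos.ne' ?_
    rw [S.g_mul_t]
    have : (S.m : ℤ) = S.g * m' := by exact_mod_cast hm'
    rw [this, ← S.g_mul_b]
    ring
  show IsCoprime S.t S.b
  rw [ht]
  exact (((Nat.isCoprime_iff_coprime.2 hpb).mul_left (Nat.isCoprime_iff_coprime.2 hmb)).neg_left).add_mul_left_left _

lemma digit_ge {i : ℕ} (hi : i < S.r) : 2 ≤ S.c.getD i 0 := by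
  rw [List.getD_eq_getElem _ _ hi]
  exact S.hc.1 _ (List.getElem_mem hi)

lemma P_step : ∀ {i : ℕ}, i ≤ S.r → 0 ≤ S.P i ∧ S.P i < S.P (i + 1)
  | 0, _ => by simp [P, hjP]
  | i + 1, h => by
    obtain ⟨h1, h2⟩ := P_step (i := i) (by omega)
    have h3 := S.digit_ge (i := i) (by omega)
    refine ⟨by linarith, ?_⟩
    show S.P (i + 1) < S.c.getD i 0 * S.P (i + 1) - S.P i
    nlinarith

lemma det : ∀ i : ℕ, S.P (i + 1) * S.Q i - S.P i * S.Q (i + 1) = -1
  | 0 => by simp [P, Q, hjP, hjQ]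
  | i + 1 => by
    have := det i
    show (S.c.getD i 0 * S.P (i + 1) - S.P i) * S.Q (i + 1) -
      S.P (i + 1) * (S.c.getD i 0 * S.Q (i + 1) - S.Q i) = -1
    linear_combination this

lemma u_zero : S.u 0 = S.b := by simp [u, P, Q, hjP, hjQ]

lemma u_one : S.u 1 = S.t := by simp [u, P, Q, hjP, hjQ]

lemma u_rec (i : ℕ) : S.u (i + 2) = S.c.getD i 0 * S.u (i + 1) - S.u i := by
  show S.t * (S.c.getD i 0 * S.P (i + 1) - S.P i) - S.b * (S.c.getD i 0 * S.Q (i + 1) - S.Q i) = _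
  ring

lemma u_facts : (∀ i ≤ S.r, 0 ≤ S.u (i + 1) ∧ S.u (i + 1) < S.u i) ∧ S.u (S.r + 1) = 0 ∧ S.u S.r = 1 := by
  have hlist : (List.range S.r).map (fun i => S.c.getD (i + 1 - 1) 0) = S.c := by
    refine List.ext_getElem (by simp) fun n h1 h2 => ?_
    simp [List.getElem?_eq_getElem h2]
  obtain ⟨v, v0, v1, vtop, vlast, vrec⟩ := H68.HJ.exists_seq S.r S.r_pos (fun i => S.c.getD (i - 1) 0)
    (fun i h1 h2 => S.digit_ge (i := i - 1) (by omega)) (bB S.p S.q S.m) (tT S.p S.q S.m) S.t_pos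
    S.coprime_t_b (by rw [hlist]; exact S.hc.2.symm)
  have huv : ∀ i ≤ S.r + 1, S.u i = v i := by
    intro i
    induction i using Nat.strong_induction_on with
    | _ i ih =>
      intro hi
      rcases i with _ | _ | i
      · rw [u_zero, v0]
      · rw [u_one, v1]
      · have := vrec (i + 1) (by omega) (by omega)
        simp only [Nat.add_sub_cancel] at this
        rw [u_rec, ih (i + 1) (by omega) (by omega), ih i (by omega) (by omega)]
        linarith
  have hdec : ∀ j, j ≤ S.r → 0 ≤ v (S.r - j + 1) ∧ v (S.r - j + 1) < v (S.r - j) := by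
    intro j
    induction j with
    | zero => intro _; simp [vtop, vlast]
    | succ j ih =>
      intro hj
      obtain ⟨h1, h2⟩ := ih (by omega)
      have h3 := S.digit_ge (i := S.r - j - 1) (by omega)
      have h4 := vrec (S.r - j) (by omega) (by omega)
      rw [show S.r - (j + 1) + 1 = S.r - j by omega]
      rw [show S.r - (j + 1) = S.r - j - 1 by omega]
      refine ⟨by linarith, ?_⟩
      nlinarith
  refine ⟨fun i hi => ?_, by rw [huv _ le_rfl, vtop], by rw [huv _ (by omega), vlast]⟩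
  have := hdec (S.r - i) (by omega)
  rw [show S.r - (S.r - i) = i by omega] at this
  rw [huv (i + 1) (by omega), huv i (by omega)]
  exact this

lemma u_nonneg {i : ℕ} (hi : i ≤ S.r + 1) : 0 ≤ S.u i := by
  rcases i with _ | i
  · rw [u_zero]; exact S.b_pos.le
  · exact (S.u_facts.1 i (by omega)).1

lemma u_le_b : ∀ {i : ℕ}, i ≤ S.r + 1 → S.u i ≤ S.b
  | 0, _ => (S.u_zero).le
  | i + 1, h => (S.u_facts.1 i (by omega)).2.le.trans (u_le_b (by omega))

lemma nN_eq (i : ℕ) : nN S.p S.q S.m S.c i = S.g * S.u i := by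
  unfold nN eE lL
  push_cast
  linear_combination (-S.P i) * S.g_mul_t + S.Q i * S.g_mul_b

lemma u_lt_b {i : ℕ} (h1 : 1 ≤ i) (hi : i ≤ S.r + 1) : S.u i < S.b := by
  obtain ⟨i, rfl⟩ := Nat.exists_eq_add_of_le h1
  calc S.u (1 + i) = S.u (i + 1) := by rw [add_comm]
    _ < S.u i := (S.u_facts.1 i (by omega)).2
    _ ≤ S.b := S.u_le_b (by omega)

/-- The residues of `t x` for `0 < x < Pᵢ`. -/
lemma residue_bounds {j : ℕ} (hj : j + 1 ≤ S.r) {x : ℤ} (hx0 : 0 < x) (hx : x < S.P (j + 1)) :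
    S.u j ≤ S.t * x % S.b ∧ S.t * x % S.b ≤ S.b + S.u (j + 1) - S.u j := by
  set ρ := S.t * x % S.b
  set y := S.t * x / S.b
  have hρ : ρ = S.t * x - S.b * y := Int.emod_def _ _
  have hρ0 : 0 ≤ ρ := Int.emod_nonneg _ S.b_pos.ne'
  have hρb : ρ < S.b := Int.emod_lt_of_pos _ S.b_pos
  obtain ⟨hP', hPP⟩ := S.P_step (i := j) (by omega)
  obtain ⟨hu0, huu⟩ := S.u_facts.1 j (by omega)
  have hdet := S.det j
  set P := S.P (j + 1)
  set P' := S.P j
  set a := x * S.Q (j + 1) - y * P with ha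
  set c := y * P' - x * S.Q j with hc
  have hax : x = a * P' + c * P := by rw [ha, hc]; linear_combination x * hdet
  have hay : y = a * S.Q j + c * S.Q (j + 1) := by rw [ha, hc]; linear_combination y * hdet
  have hρ' : ρ = a * S.u j + c * S.u (j + 1) := by
    rw [hρ]; unfold u; linear_combination S.t * hax - S.b * hay
  have hb : S.b = P * S.u j - P' * S.u (j + 1) := by
    unfold u; linear_combination S.b * hdet
  have hP'pos : 1 ≤ P' := by
    rcases j with _ | j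
    · exfalso
      have : P = 1 := rfl
      omega
    · have := S.P_step (i := j) (by omega)
      show 1 ≤ S.P (j + 1)
      omega
  have hP0 : (0 : ℤ) ≤ P := by omega
  have hc0 : c ≤ 0 := by
    by_contra h
    have hc1 : 1 ≤ c := by omega
    rcases le_or_gt 0 a with ha0 | ha0
    · have := mul_nonneg ha0 hP'
      have := mul_le_mul_of_nonneg_right hc1 hP0
      linarith
    · have hca : -a < c := by
        by_contra h'
        have := mul_le_mul_of_nonneg_right (not_lt.1 h') hu0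
        have := mul_lt_mul_of_pos_left huu (neg_pos.2 ha0)
        linarith
      have := mul_lt_mul_of_pos_left hPP (neg_pos.2 ha0)
      have := mul_le_mul_of_nonneg_right (show -a + 1 ≤ c by omega) hP0
      linarith
  have ha1 : 1 ≤ a := by
    by_contra h
    have := mul_nonpos_of_nonpos_of_nonneg (show a ≤ 0 by omega) hP'
    have := mul_nonpos_of_nonpos_of_nonneg hc0 hP0
    linarith
  have hac : -c < a := by
    by_contra h
    have := mul_le_mul_of_nonneg_right (not_lt.1 h) hP0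
    have := mul_lt_mul_of_pos_left hPP (show (0 : ℤ) < a by omega)
    linarith
  have hcP : -c ≤ P' - 1 := by
    by_contra h
    have h' : 0 ≤ -c - P' := by omega
    have haP : -c - P' < a - P := by
      by_contra h''
      have := mul_le_mul_of_nonneg_right (not_lt.1 h'') hP'
      have := mul_le_mul_of_nonneg_left hPP.le h'
      linarith
    have := mul_le_mul_of_nonneg_left huu.le h'
    have := mul_lt_mul_of_pos_right haP (show 0 < S.u j by omega)
    linarith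
  have haP : a ≤ P - 1 := by
    by_contra h
    have := mul_le_mul_of_nonneg_right (show P ≤ a by omega) hP'
    have := mul_le_mul_of_nonneg_right (show -c + 1 ≤ P' by omega) hP0
    linarith
  have hC : (0 : ℤ) ≤ P' - 1 + c := by omega
  have hCA : P' - 1 + c ≤ P - 1 - a := by
    by_contra h
    have := mul_le_mul_of_nonneg_right (show P - a ≤ P' - 1 + c by omega) hP'
    have := mul_le_mul_of_nonneg_left hPP.le hC
    linarith
  have hu' : 0 ≤ S.u j := by omega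
  constructor
  · have := mul_le_mul_of_nonneg_left huu.le (show (0 : ℤ) ≤ -c by omega)
    have := mul_le_mul_of_nonneg_right (show -c ≤ a - 1 by omega) hu'
    linarith
  · have := mul_le_mul_of_nonneg_left huu.le hC
    have := mul_le_mul_of_nonneg_right hCA hu'
    linarith

/-- `p m x` modulo `q - p`. -/
lemma pmx_emod {j : ℕ} (hj : j + 1 ≤ S.r) {x : ℤ} (hx0 : 0 < x) (hx : x < S.P (j + 1)) :
    ((S.p : ℤ) * S.m * x) % S.D = S.g * (S.b - S.t * x % S.b) := by
  obtain ⟨h1, h2⟩ := S.residue_bounds hj hx0 hx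
  have h3 := S.u_facts.1 j (by omega)
  have e : (S.p : ℤ) * S.m * x = S.g * (S.b - S.t * x % S.b) + S.D * (S.a1 * x - S.t * x / S.b - 1) := by
    rw [Int.emod_def, ← S.g_mul_b]
    linear_combination x * S.g_mul_t - (S.a1 * x) * S.g_mul_b
  rw [e]
  refine emod_eq_of_decomp ?_ ?_
  · exact mul_nonneg S.g_pos.le (by linarith)
  · rw [← S.g_mul_b]
    exact mul_lt_mul_of_pos_left (by linarith [h3.1, h3.2]) S.g_pos

lemma mod_add {i : ℕ} (hi : 1 < i) (hir : i ≤ S.r) {x : ℤ} (hx0 : 0 < x) (hx : x < S.P i) :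
    ((S.p : ℤ) * S.m * x + nN S.p S.q S.m S.c i) % S.D =
      nN S.p S.q S.m S.c i + ((S.p : ℤ) * S.m * x) % S.D := by
  obtain ⟨j, rfl⟩ : ∃ j, i = j + 1 := ⟨i - 1, by omega⟩
  obtain ⟨h1, h2⟩ := S.residue_bounds hir hx0 hx
  obtain ⟨hu0, huu⟩ := S.u_facts.1 j (by omega)
  have h3 := S.pmx_emod hir hx0 hx
  rw [Int.add_emod, h3, nN_eq]
  have hlt : S.g * S.u (j + 1) < S.D := by
    rw [← S.g_mul_b]
    exact mul_lt_mul_of_pos_left (S.u_lt_b (by omega) (by omega)) S.g_pos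
  rw [Int.emod_eq_of_lt (mul_nonneg S.g_pos.le hu0) hlt, Int.emod_eq_of_lt, add_comm]
  · have : S.t * x % S.b < S.b := Int.emod_lt_of_pos _ S.b_pos
    exact add_nonneg (mul_nonneg S.g_pos.le (by linarith)) (mul_nonneg S.g_pos.le hu0)
  · rw [← mul_add, ← S.g_mul_b]
    exact mul_lt_mul_of_pos_left (by linarith) S.g_pos

lemma weight_eq (i : ℕ) : S.D * lL S.p S.q S.m S.c i = nN S.p S.q S.m S.c i + S.p * S.m * S.P i := by
  unfold nN eE lL D
  push_cast
  ring

lemma eE_eq (i : ℕ) : eE S.p S.q S.m S.c i = lL S.p S.q S.m S.c i + S.m * S.P i := by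
  unfold eE lL
  push_cast
  ring

lemma nonneg_data {i : ℕ} (hi : i ≤ S.r + 1) :
    0 ≤ nN S.p S.q S.m S.c i ∧ 0 ≤ lL S.p S.q S.m S.c i ∧ 0 ≤ eE S.p S.q S.m S.c i := by
  have hn : 0 ≤ nN S.p S.q S.m S.c i := by rw [nN_eq]; exact mul_nonneg S.g_pos.le (S.u_nonneg hi)
  have hP : 0 ≤ S.P i := by
    rcases i with _ | i
    · simp [P, hjP]
    · obtain ⟨h1, h2⟩ := S.P_step (i := i) (by omega); linarith
  have hl : 0 ≤ lL S.p S.q S.m S.c i := by
    by_contra h
    have h1 := S.weight_eq i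
    have h2 := mul_neg_of_pos_of_neg S.D_pos (not_le.1 h)
    have h3 : 0 ≤ (S.p : ℤ) * S.m * S.P i := by positivity
    linarith
  refine ⟨hn, hl, ?_⟩
  rw [eE_eq]
  positivity

/-- Exponents below `nᵢ` lie above `(eᵢ, lᵢ)`. -/
lemma above_of_small {i : ℕ} (hi : 1 ≤ i) (hir : i ≤ S.r) {d0 d1 d2 : ℕ}
    (hw : (d0 : ℤ) - S.p * d1 + S.q * d2 = nN S.p S.q S.m S.c i)
    (hdvd : (S.m : ℤ) ∣ (d2 : ℤ) - d1) (hd0 : (d0 : ℤ) < nN S.p S.q S.m S.c i) :
    eE S.p S.q S.m S.c i ≤ d1 ∧ lL S.p S.q S.m S.c i ≤ d2 := by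
  obtain ⟨x, hx⟩ : (S.m : ℤ) ∣ (d1 : ℤ) - d2 := by rw [← dvd_neg, neg_sub]; exact hdvd
  have hd2 : S.D * d2 = S.p * S.m * x + nN S.p S.q S.m S.c i - d0 := by
    unfold D; linear_combination hw + (S.p : ℤ) * hx
  have hnD : nN S.p S.q S.m S.c i < S.D := by
    rw [nN_eq, ← S.g_mul_b]
    exact mul_lt_mul_of_pos_left (S.u_lt_b hi (by omega)) S.g_pos
  have hxP : S.P i ≤ x := by
    by_contra hxP
    push Not at hxP
    rcases lt_trichotomy 0 x with hx0 | rfl | hx0
    · rcases Nat.lt_or_ge 1 i with h1i | h1i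
      · have h1 := S.mod_add h1i hir hx0 hxP
        rw [show (S.p : ℤ) * S.m * x + nN S.p S.q S.m S.c i = d0 + S.D * d2 by linarith,
          emod_eq_of_decomp (Int.natCast_nonneg d0) (hd0.trans hnD)] at h1
        have := Int.emod_nonneg ((S.p : ℤ) * S.m * x) S.D_pos.ne'
        linarith
      · obtain rfl : i = 1 := by omega
        have : S.P 1 = 1 := rfl
        omega
    · simp only [mul_zero, zero_add] at hd2
      rcases Nat.eq_zero_or_pos d2 with e | e
      · simp [e] at hd2; linarith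
      · nlinarith [mul_le_mul_of_nonneg_left (show (1 : ℤ) ≤ d2 by exact_mod_cast e) S.D_pos.le]
    · have h1 : (S.p : ℤ) * S.m * x ≤ 0 := mul_nonpos_of_nonneg_of_nonpos (by positivity) hx0.le
      rcases Nat.eq_zero_or_pos d2 with e | e
      · have : (S.m : ℤ) * x < 0 := mul_neg_of_pos_of_neg (by exact_mod_cast S.hm) hx0
        simp [e] at hx
        omega
      · nlinarith [mul_le_mul_of_nonneg_left (show (1 : ℤ) ≤ d2 by exact_mod_cast e) S.D_pos.le]
  have hl : lL S.p S.q S.m S.c i ≤ d2 := by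
    by_contra h
    push Not at h
    have h1 := mul_le_mul_of_nonneg_left (show (d2 : ℤ) + 1 ≤ lL S.p S.q S.m S.c i by omega) S.D_pos.le
    rw [S.weight_eq, mul_add, hd2, mul_one] at h1
    have h2 : (S.p : ℤ) * S.m * S.P i ≤ S.p * S.m * x := mul_le_mul_of_nonneg_left hxP (by positivity)
    linarith
  refine ⟨?_, hl⟩
  rw [eE_eq]
  have := mul_le_mul_of_nonneg_left hxP (Int.natCast_nonneg S.m)
  linarith

/-- Two standard exponents of the same weight coincide. -/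
lemma standard_unique {i : ℕ} (hi : 1 ≤ i) (hir : i ≤ S.r) {d0 d1 d2 e0 e1 e2 : ℕ}
    (hd0 : (d0 : ℤ) < nN S.p S.q S.m S.c (i - 1)) (he0 : (e0 : ℤ) < nN S.p S.q S.m S.c (i - 1))
    (hd : ¬ (eE S.p S.q S.m S.c i ≤ d1 ∧ lL S.p S.q S.m S.c i ≤ d2))
    (hKd : ∀ a0 a1 a2 : ℕ, a0 ≤ d0 → a1 ≤ d1 → a2 ≤ d2 →
      (a0 : ℤ) - S.p * a1 + S.q * a2 = 0 → (S.m : ℤ) ∣ (a2 : ℤ) - a1 → a1 = 0)
    (hw : (d0 : ℤ) - S.p * d1 + S.q * d2 = (e0 : ℤ) - S.p * e1 + S.q * e2)
    {x : ℤ} (hx : ((d1 : ℤ) - d2) - ((e1 : ℤ) - e2) = S.m * x) (hx0 : 0 ≤ x) :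
    d0 = e0 ∧ d1 = e1 ∧ d2 = e2 := by
  obtain ⟨j, rfl⟩ : ∃ j, i = j + 1 := ⟨i - 1, by omega⟩
  simp only [Nat.add_sub_cancel] at hd0 he0
  rw [nN_eq] at hd0 he0
  obtain ⟨hu0, huu⟩ := S.u_facts.1 j (by omega)
  have hn' : S.g * S.u j ≤ S.D := by
    rw [← S.g_mul_b]
    exact mul_le_mul_of_nonneg_left (S.u_le_b (by omega)) S.g_pos.le
  set δ0 : ℤ := (d0 : ℤ) - e0 with hδ0
  set δ2 : ℤ := (d2 : ℤ) - e2 with hδ2
  have hD : S.D * δ2 = S.p * S.m * x - δ0 := by
    rw [hδ0, hδ2]; unfold D; linear_combination hw + (S.p : ℤ) * hx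
  rcases eq_or_lt_of_le hx0 with rfl | hxpos
  · simp only [mul_zero, zero_sub] at hD hx
    have hz : δ2 = 0 := by
      rcases lt_trichotomy δ2 0 with h | h | h
      · nlinarith [mul_le_mul_of_nonneg_left (show δ2 ≤ -1 by omega) S.D_pos.le]
      · exact h
      · nlinarith [mul_le_mul_of_nonneg_left (show 1 ≤ δ2 by omega) S.D_pos.le]
    rw [hz, mul_zero] at hD
    omega
  exfalso
  have hmx : 0 < (S.m : ℤ) * x := mul_pos (by exact_mod_cast S.hm) hxpos
  rcases le_or_gt 0 δ0 with h0 | h0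
  · have h2 : 0 ≤ δ2 := by
      by_contra h
      nlinarith [mul_le_mul_of_nonneg_left (show δ2 ≤ -1 by omega) S.D_pos.le,
        mul_nonneg (mul_nonneg (Int.natCast_nonneg S.p) (Int.natCast_nonneg S.m)) hx0]
    have h1 := hKd (d0 - e0) (d1 - e1) (d2 - e2) (Nat.sub_le _ _) (Nat.sub_le _ _) (Nat.sub_le _ _)
      (by rw [Nat.cast_sub (by omega), Nat.cast_sub (by omega), Nat.cast_sub (by omega)]; linarith)
      (⟨-x, by rw [Nat.cast_sub (by omega), Nat.cast_sub (by omega)]; linarith⟩)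
    omega
  · set ρ := S.t * x % S.b
    have hρ0 : 0 ≤ ρ := Int.emod_nonneg _ S.b_pos.ne'
    have hρb : ρ < S.b := Int.emod_lt_of_pos _ S.b_pos
    -- `-δ0 = g ρ`
    have hrep : -δ0 = S.g * ρ + S.D * (S.t * x / S.b - S.a1 * x + δ2) := by
      show _ = S.g * (S.t * x % S.b) + _
      rw [Int.emod_def]
      linear_combination (-x) * S.g_mul_t + (S.t * x / S.b) * S.g_mul_b - hD
    have hg0 : -δ0 = S.g * ρ := by
      have hk : S.t * x / S.b - S.a1 * x + δ2 = 0 := by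
        have hgρ : S.g * ρ < S.D := by
          rw [← S.g_mul_b]; exact mul_lt_mul_of_pos_left hρb S.g_pos
        have hgρ0 : 0 ≤ S.g * ρ := mul_nonneg S.g_pos.le hρ0
        rcases lt_trichotomy (S.t * x / S.b - S.a1 * x + δ2) 0 with h | h | h
        · have := mul_le_mul_of_nonneg_left
            (show S.t * x / S.b - S.a1 * x + δ2 ≤ -1 by omega) S.D_pos.le
          linarith [show -δ0 > 0 by omega]
        · exact h
        · have := mul_le_mul_of_nonneg_left
            (show (1 : ℤ) ≤ S.t * x / S.b - S.a1 * x + δ2 by omega) S.D_pos.le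
          linarith [Int.natCast_nonneg d0]
      rw [hrep, hk, mul_zero, add_zero]
    have hρu : ρ < S.u j := by
      refine lt_of_mul_lt_mul_left ?_ S.g_pos.le
      rw [← hg0]; omega
    have hxP : S.P (j + 1) ≤ x := by
      by_contra h
      exact absurd (S.residue_bounds hir hxpos (not_le.1 h)).1 (not_le.2 hρu)
    have hlt : S.g * S.u (j + 1) < S.D := by
      rw [← S.g_mul_b]; exact mul_lt_mul_of_pos_left (S.u_lt_b (by omega) (by omega)) S.g_pos
    have hl : lL S.p S.q S.m S.c (j + 1) ≤ δ2 := by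
      by_contra h
      have h1 := mul_le_mul_of_nonneg_left (show δ2 + 1 ≤ lL S.p S.q S.m S.c (j + 1) by omega) S.D_pos.le
      rw [S.weight_eq, nN_eq, mul_add, hD, mul_one] at h1
      have h2 : (S.p : ℤ) * S.m * S.P (j + 1) ≤ S.p * S.m * x := mul_le_mul_of_nonneg_left hxP (by positivity)
      linarith [mul_nonneg S.g_pos.le hρ0]
    refine hd ⟨?_, by omega⟩
    rw [eE_eq]
    have := mul_le_mul_of_nonneg_left hxP (Int.natCast_nonneg S.m)
    omega

end Setup

end Groth.Agent.Lib.InvHilb
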