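import Groth.Agent.Lib.InvHilb.HJ

/-!
# Weight pieces attached to the Hirzebruch–Jung expansion
-/

open MvPolynomial

noncomputable section

namespace Groth.Agent.Lib.InvHilb

open W4c2invhilbsl2

universe u

variable {k : Type u} [Field k]

namespace Setup

variable (S : Setup)

/-- `nᵢ, eᵢ, lᵢ` as natural numbers. -/
lemma exists_nat {i : ℕ} (hi : i ≤ S.r + 1) : ∃ n e l : ℕ,
    nN S.p S.q S.m S.c i = n ∧ eE S.p S.q S.m S.c i = e ∧ lL S.p S.q S.m S.c i = l := by
  obtain ⟨h1, h2, h3⟩ := S.nonneg_data hi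
  exact ⟨_, _, _, (Int.toNat_of_nonneg h1).symm, (Int.toNat_of_nonneg h3).symm, (Int.toNat_of_nonneg h2).symm⟩

lemma e_pos {i : ℕ} (hi : 1 ≤ i) (hir : i ≤ S.r) : 1 ≤ eE S.p S.q S.m S.c i := by
  obtain ⟨j, rfl⟩ : ∃ j, i = j + 1 := ⟨i - 1, by omega⟩
  obtain ⟨h1, h2⟩ := S.P_step (i := j) (by omega)
  obtain ⟨-, hl, -⟩ := S.nonneg_data (i := j + 1) (by omega)
  rw [eE_eq]
  have := mul_le_mul (show (1 : ℤ) ≤ S.m by exact_mod_cast S.hm) (show 1 ≤ S.P (j + 1) by omega)
    zero_le_one (Int.natCast_nonneg _)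
  linarith

theorem piece_n_three {i : ℕ} (hi : 1 ≤ i) (hir : i ≤ S.r) (f : MvPolynomial (Fin 3) k)
    (hf : f ∈ weightedHomogeneousSubmodule k (wt3 S.p S.q S.m) (nN S.p S.q S.m S.c i, (0 : ZMod S.m))) :
    ∃ a b : MvPolynomial (Fin 3) k, a ∈ weightedHomogeneousSubmodule k (wt3 S.p S.q S.m) 0 ∧
      b ∈ weightedHomogeneousSubmodule k (wt3 S.p S.q S.m) 0 ∧
      f = a * X (0 : Fin 3) ^ (nN S.p S.q S.m S.c i).toNat +
        b * (X (1 : Fin 3) ^ (eE S.p S.q S.m S.c i).toNat * X (2 : Fin 3) ^ (lL S.p S.q S.m S.c i).toNat) := by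
  obtain ⟨n, e, l, hn, he, hl⟩ := S.exists_nat (i := i) (by omega)
  have hwt : S.D * (l : ℤ) = n + S.p * S.m * S.P i := by rw [← hl, ← hn]; exact S.weight_eq i
  have hel : (e : ℤ) = l + S.m * S.P i := by rw [← hl, ← he]; exact S.eE_eq i
  have hmem : f ∈ mulSub (wt3 S.p S.q S.m) (monomial (f3 n 0 0) (1 : k)) ⊔
      mulSub (wt3 S.p S.q S.m) (monomial (f3 0 e l) (1 : k)) := by
    refine mem_of_monomials _ hf _ fun d hd => ?_
    have hd' := hd
    rw [weight_wt3, Prod.ext_iff] at hd'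
    by_cases h : n ≤ d 0
    · refine Submodule.mem_sup_left (monomial_mem_mulSub _ (le_f3 h (Nat.zero_le _) (Nat.zero_le _)) ?_)
      rw [hd, weight_f3, hn]
      simp
    · obtain ⟨h1, h2⟩ := S.above_of_small hi hir hd'.1 ((cast_zero_iff_dvd _ _).1 hd'.2)
        (by rw [hn]; exact_mod_cast not_le.1 h)
      rw [he] at h1
      rw [hl] at h2
      refine Submodule.mem_sup_right (monomial_mem_mulSub _
        (le_f3 (Nat.zero_le _) (by exact_mod_cast h1) (by exact_mod_cast h2)) ?_)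
      rw [hd, weight_f3, hn]
      refine Prod.ext ?_ ((cast_zero_iff_dvd _ _).2 ⟨-S.P i, by linear_combination -hel⟩).symm
      show (n : ℤ) = _
      push_cast
      unfold D at hwt
      linear_combination (S.p : ℤ) * hel - hwt
  obtain ⟨_, ⟨a, ha, rfl⟩, _, ⟨b, hb, rfl⟩, rfl⟩ := Submodule.mem_sup.1 hmem
  refine ⟨a, b, ha, hb, ?_⟩
  rw [hn, he, hl]
  simp [monomial_f3, LinearMap.mulRight_apply, mul_assoc]

theorem piece_n_five {i : ℕ} (hi : 1 ≤ i) (hir : i ≤ S.r) (f : MvPolynomial (Fin 5) k)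
    (hf : f ∈ weightedHomogeneousSubmodule k (wt5 S.p S.q S.m) (nN S.p S.q S.m S.c i, (0 : ZMod S.m))) :
    ∃ (a₀ : MvPolynomial (Fin 5) k) (a : ℕ → ℕ → MvPolynomial (Fin 5) k),
      a₀ ∈ weightedHomogeneousSubmodule k (wt5 S.p S.q S.m) 0 ∧
      (∀ e l : ℕ, a e l ∈ weightedHomogeneousSubmodule k (wt5 S.p S.q S.m) 0) ∧
      f - (a₀ * X (0 : Fin 5) ^ (nN S.p S.q S.m S.c i).toNat +
          ∑ e ∈ Finset.range ((eE S.p S.q S.m S.c i).toNat + 1),
            ∑ l ∈ Finset.range ((lL S.p S.q S.m S.c i).toNat + 1),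
            a e l * (X (1 : Fin 5) ^ ((eE S.p S.q S.m S.c i).toNat - e) * X (2 : Fin 5) ^ e *
              X (3 : Fin 5) ^ ((lL S.p S.q S.m S.c i).toNat - l) * X (4 : Fin 5) ^ l)) ∈
        Ideal.span {X (0 : Fin 5) ^ (S.q - S.p) - X 1 * X 4 + X 2 * X 3} := by
  classical
  obtain ⟨n, E, L, hn, hE, hL⟩ := S.exists_nat (i := i) (by omega)
  have hwt : S.D * (L : ℤ) = n + S.p * S.m * S.P i := by rw [← hL, ← hn]; exact S.weight_eq i
  have hel : (E : ℤ) = L + S.m * S.P i := by rw [← hL, ← hE]; exact S.eE_eq i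
  simp only [hn, hE, hL, Int.toNat_natCast] at hf ⊢
  set W := weightedHomogeneousSubmodule k (wt5 S.p S.q S.m) 0
  let good : Submodule k (MvPolynomial (Fin 5) k) :=
  { carrier := {f | ∃ (a₀ : MvPolynomial (Fin 5) k) (a : ℕ → ℕ → MvPolynomial (Fin 5) k),
      a₀ ∈ W ∧ (∀ e l, a e l ∈ W) ∧
      f = a₀ * X 0 ^ n + ∑ e ∈ Finset.range (E + 1), ∑ l ∈ Finset.range (L + 1),
        a e l * (X 1 ^ (E - e) * X 2 ^ e * X 3 ^ (L - l) * X 4 ^ l)}
    add_mem' := by
      rintro _ _ ⟨a₀, a, h1, h2, rfl⟩ ⟨b₀, b, h3, h4, rfl⟩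
      refine ⟨a₀ + b₀, fun e l => a e l + b e l, add_mem h1 h3, fun e l => add_mem (h2 e l) (h4 e l), ?_⟩
      simp only [add_mul, Finset.sum_add_distrib]
      ring
    zero_mem' := ⟨0, fun _ _ => 0, zero_mem _, fun _ _ => zero_mem _, by simp⟩
    smul_mem' := by
      rintro c _ ⟨a₀, a, h1, h2, rfl⟩
      exact ⟨c • a₀, fun e l => c • a e l, Submodule.smul_mem _ _ h1, fun e l => Submodule.smul_mem _ _ (h2 e l),
        by simp [Finset.smul_sum]⟩ }
  have hmem : f ∈ good := by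
    refine mem_of_monomials _ hf good fun d hd => ?_
    have hd' := hd
    rw [weight_wt5, Prod.ext_iff] at hd'
    by_cases h : n ≤ d 0
    · obtain ⟨a, ha, hae⟩ := (mem_mulSub_iff _).1 (monomial_mem_mulSub (k := k) (wt5 S.p S.q S.m)
        (single_le_iff' h) (by rw [hd, Finsupp.weight_single]; simp [wt5]))
      refine ⟨a, fun _ _ => 0, ha, fun _ _ => zero_mem _, ?_⟩
      rw [← hae, X_pow_eq_monomial]
      simp
    · obtain ⟨h1, h2⟩ := S.above_of_small hi hir (d1 := d 1 + d 2) (d2 := d 3 + d 4) (hd'.1.trans hn.symm)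
        ((cast_zero_iff_dvd _ _).1 hd'.2) (by rw [hn]; exact_mod_cast not_le.1 h)
      rw [hE] at h1
      rw [hL] at h2
      have h1' : E ≤ d 1 + d 2 := by exact_mod_cast h1
      have h2' : L ≤ d 3 + d 4 := by exact_mod_cast h2
      set e' := min (d 2) E
      set l' := min (d 4) L
      have hee : E - e' + e' = E := Nat.sub_add_cancel (min_le_right _ _)
      have hll : L - l' + l' = L := Nat.sub_add_cancel (min_le_right _ _)
      obtain ⟨a, ha, hae⟩ := (mem_mulSub_iff _).1 (monomial_mem_mulSub (k := k) (wt5 S.p S.q S.m)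
        (d := d) (e := f5 0 (E - e') e' (L - l') l')
        (le_f5 (Nat.zero_le _) (by omega) (by omega) (by omega) (by omega)) (by
          rw [hd, weight_f5, hee, hll]
          refine Prod.ext ?_ ((cast_zero_iff_dvd _ _).2 ⟨-S.P i, by linear_combination -hel⟩).symm
          show (n : ℤ) = _
          push_cast
          unfold D at hwt
          linear_combination (S.p : ℤ) * hel - hwt))
      refine ⟨0, fun e l => if e = e' ∧ l = l' then a else 0, zero_mem _,
        fun e l => by beta_reduce; split_ifs; exacts [ha, zero_mem _], ?_⟩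
      rw [← hae, monomial_f5, zero_mul, zero_add, pow_zero, one_mul,
        Finset.sum_eq_single_of_mem e' (Finset.mem_range.2 (by omega)) (fun e _ he => by simp [he]),
        Finset.sum_eq_single_of_mem l' (Finset.mem_range.2 (by omega)) (fun l _ hl => by simp [hl])]
      simp
  obtain ⟨a₀, a, h1, h2, rfl⟩ := hmem
  exact ⟨a₀, a, h1, h2, by simp⟩

theorem rank_idealL {i : ℕ} (hi : 1 ≤ i) (hir : i ≤ S.r) (s : k) (ν : ℤ × ZMod S.m) :
    Module.rank k (piece k (wt3 S.p S.q S.m) (idealL k S.p S.q S.m S.c i s) ν) ≤ 1 := by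
  classical
  obtain ⟨n, e, l, hn, he, hl⟩ := S.exists_nat (i := i) (by omega)
  obtain ⟨n', _, _, hn', -, -⟩ := S.exists_nat (i := i - 1) (by omega)
  have hwt : S.D * (l : ℤ) = n + S.p * S.m * S.P i := by rw [← hl, ← hn]; exact S.weight_eq i
  have hel : (e : ℤ) = l + S.m * S.P i := by rw [← hl, ← he]; exact S.eE_eq i
  have he1 : 1 ≤ e := by have := S.e_pos hi hir; rw [he] at this; exact_mod_cast this
  set I := idealL k S.p S.q S.m S.c i s
  set π := Ideal.Quotient.mk I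
  have h0 : π (X 0) ^ n' = 0 := by
    rw [← map_pow]
    refine Ideal.Quotient.eq_zero_iff_mem.2 (Ideal.mem_sup_left (Ideal.subset_span (Or.inl ?_)))
    rw [hn', Int.toNat_natCast]
  have hG : π (C s) * π (X 0) ^ n = π (X 1) ^ e * π (X 2) ^ l := by
    rw [← sub_eq_zero, ← map_pow, ← map_pow, ← map_pow, ← map_mul, ← map_mul, ← map_sub]
    refine Ideal.Quotient.eq_zero_iff_mem.2 (Ideal.mem_sup_left (Ideal.subset_span (Or.inr ?_)))
    rw [Set.mem_singleton_iff, hn, he, hl, Int.toNat_natCast, Int.toNat_natCast, Int.toNat_natCast]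
  have hK : ∀ a d : Fin 3 →₀ ℕ, a ≠ 0 → Finsupp.weight (wt3 S.p S.q S.m) a = 0 → a ≤ d →
      π (monomial d 1) = 0 := by
    intro a d ha haw hle
    obtain ⟨t, rfl⟩ := exists_add_of_le hle
    refine Ideal.Quotient.eq_zero_iff_mem.2 ?_
    rw [show monomial (a + t) (1 : k) = monomial a 1 * monomial t 1 by rw [monomial_mul, mul_one]]
    exact Ideal.mul_mem_right _ _ (Ideal.mem_sup_right (Ideal.subset_span ⟨a, ha, haw, rfl⟩))
  let std : (Fin 3 →₀ ℕ) → Prop := fun d => Finsupp.weight (wt3 S.p S.q S.m) d = ν ∧ d 0 < n' ∧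
    ¬ (e ≤ d 1 ∧ l ≤ d 2) ∧ ∀ a ≤ d, Finsupp.weight (wt3 S.p S.q S.m) a = 0 → a = 0
  have huniq : ∀ d d', std d → std d' → d = d' := by
    intro d d' h h'
    have hw := h'.1.trans h.1.symm
    rw [weight_wt3_eq_iff] at hw
    obtain ⟨hwn, x, hx⟩ := hw
    wlog hx0 : 0 ≤ x generalizing d d' x
    · exact (this d' d h' h hwn.symm (-x) (by linarith) (by linarith)).symm
    have hKd : ∀ a0 a1 a2 : ℕ, a0 ≤ d 0 → a1 ≤ d 1 → a2 ≤ d 2 →
        (a0 : ℤ) - S.p * a1 + S.q * a2 = 0 → (S.m : ℤ) ∣ (a2 : ℤ) - a1 → a1 = 0 := by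
      intro a0 a1 a2 b0 b1 b2 b3 b4
      have := h.2.2.2 (f3 a0 a1 a2) (le_f3 b0 b1 b2)
        (by rw [weight_f3]; exact Prod.ext b3 ((cast_zero_iff_dvd _ _).2 b4))
      simpa [f3] using congrArg (fun v => v 1) this
    obtain ⟨e0, e1, e2⟩ := S.standard_unique hi hir (d0 := d 0) (d1 := d 1) (d2 := d 2)
      (e0 := d' 0) (e1 := d' 1) (e2 := d' 2)
      (by rw [hn']; exact_mod_cast h.2.1) (by rw [hn']; exact_mod_cast h'.2.1)
      (by rw [he, hl]; exact_mod_cast h.2.2.1) hKd hwn.symm hx hx0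
    ext j; fin_cases j <;> assumption
  let v : MvPolynomial (Fin 3) k ⧸ I := if h : ∃ d, std d then π (monomial h.choose 1) else 0
  refine rank_piece_le_one _ _ _ v ?_
  suffices ∀ (N : ℕ) (d : Fin 3 →₀ ℕ), d 1 = N → Finsupp.weight (wt3 S.p S.q S.m) d = ν →
      π (monomial d 1) ∈ Submodule.span k {v} from fun d hd => this _ d rfl hd
  intro N
  induction N using Nat.strong_induction_on with
  | _ N ih =>
    intro d hdN hd
    by_cases hstd : std d
    · have hex : ∃ d, std d := ⟨d, hstd⟩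
      have hv : v = π (monomial d 1) := by
        simp only [v, dif_pos hex, huniq _ _ hex.choose_spec hstd]
      rw [hv]
      exact Submodule.mem_span_singleton_self _
    have hcases : n' ≤ d 0 ∨ (e ≤ d 1 ∧ l ≤ d 2) ∨
        ∃ a, a ≤ d ∧ Finsupp.weight (wt3 S.p S.q S.m) a = 0 ∧ a ≠ 0 := by
      by_contra hcon
      rw [not_or, not_or] at hcon
      exact hstd ⟨hd, not_le.1 hcon.1, hcon.2.1, fun a h1 h2 => by_contra fun h3 => hcon.2.2 ⟨a, h1, h2, h3⟩⟩
    rcases hcases with h | h | ⟨a, hle, haw, ha⟩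
    · obtain ⟨r, hr⟩ := Nat.exists_eq_add_of_le h
      have : π (monomial d 1) = 0 := by
        rw [monomial_eq3]; simp [hr, pow_add, h0]
      rw [this]; exact zero_mem _
    · obtain ⟨r1, hr1⟩ := Nat.exists_eq_add_of_le h.1
      obtain ⟨r2, hr2⟩ := Nat.exists_eq_add_of_le h.2
      have hred : π (monomial d 1) = π (C s) * π (monomial (f3 (d 0 + n) r1 r2) 1) := by
        rw [monomial_eq3, monomial_f3, hr1, hr2]
        simp only [map_mul, map_pow]
        rw [pow_add, pow_add, pow_add]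
        linear_combination (-(π (X 0) ^ d 0 * π (X 1) ^ r1 * π (X 2) ^ r2)) * hG
      rw [hred, ← map_mul, C_mul']
      show Ideal.Quotient.mkₐ k I (s • monomial _ 1) ∈ _
      rw [map_smul]
      refine Submodule.smul_mem _ _ (ih r1 (by omega) _ (by simp [f3]) ?_)
      rw [← hd, weight_wt3_eq_iff]
      simp only [f3, Finsupp.add_apply, Finsupp.single_apply, hr1, hr2]
      norm_num
      refine ⟨?_, ⟨S.P i, by linear_combination hel⟩⟩
      unfold D at hwt
      linear_combination -hwt + (S.p : ℤ) * hel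
    · rw [hK a d ha haw hle]; exact zero_mem _

end Setup

end Groth.Agent.Lib.InvHilb
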