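import Groth.Prelude.Def_W4c2invhilbsl2
import Mathlib.Tactic.LinearCombination
import Mathlib.Tactic.Ring
import Mathlib.Algebra.BigOperators.Fin
import Mathlib.RingTheory.Coprime.Lemmas
import Mathlib.LinearAlgebra.Dimension.Constructions

/-!
# Weighted monomials in three and five variables
-/

open MvPolynomial

noncomputable section

namespace Groth.Agent.Lib.InvHilb

open W4c2invhilbsl2

/-- Monomials with equal torus weight, modulo `x^(q-p) = y z` and `x^(mp) y^m = s`. -/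
theorem pow_mul_eq {R : Type*} [CommRing R] (x y z s : R) (p q m : ℕ) (hp : 0 < p) (hpq : p < q)
    (hA : x ^ (q - p) = y * z) :
    ∀ (k : ℕ), (k = 0 ∨ x ^ (m * p) * y ^ m = s) → ∀ (d0 d1 d2 e0 e1 e2 : ℕ),
      (e0 : ℤ) - p * e1 + q * e2 = (d0 : ℤ) - p * d1 + q * d2 →
      (d1 : ℤ) - d2 = (e1 : ℤ) - e2 + m * k →
      x ^ d0 * y ^ d1 * z ^ d2 = s ^ k * (x ^ e0 * y ^ e1 * z ^ e2) := by
  have base : ∀ (d0 d1 d2 e0 e1 e2 : ℕ), (e0 : ℤ) - p * e1 + q * e2 = (d0 : ℤ) - p * d1 + q * d2 →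
      (d1 : ℤ) - d2 = (e1 : ℤ) - e2 → x ^ d0 * y ^ d1 * z ^ d2 = x ^ e0 * y ^ e1 * z ^ e2 := by
    intro d0 d1 d2 e0 e1 e2 hn hc
    wlog hle : d2 ≤ e2 generalizing d0 d1 d2 e0 e1 e2
    · exact (this e0 e1 e2 d0 d1 d2 hn.symm hc.symm (le_of_not_ge hle)).symm
    obtain ⟨j, rfl⟩ := Nat.exists_eq_add_of_le hle
    obtain rfl : e1 = d1 + j := by omega
    have h0 : d0 = e0 + (q - p) * j := by
      have : (d0 : ℤ) = (e0 + (q - p) * j : ℕ) := by
        push_cast [Nat.cast_sub hpq.le]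
        push_cast at hn
        linarith
      exact_mod_cast this
    rw [h0, pow_add, pow_mul, hA]
    ring
  intro k
  induction k with
  | zero => intro _ d0 d1 d2 e0 e1 e2 hn hc; simpa using base d0 d1 d2 e0 e1 e2 hn (by simpa using hc)
  | succ k ih =>
    intro hU d0 d1 d2 e0 e1 e2 hn hc
    have hU' : x ^ (m * p) * y ^ m = s := hU.resolve_left k.succ_ne_zero
    push_cast at hc
    set c : ℤ := (d1 : ℤ) - d2 with hcd
    set n : ℤ := (d0 : ℤ) - p * d1 + q * d2 with hnd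
    -- a member of the class of `d` divisible by `x^(mp) y^m`
    let t2 : ℤ := max 0 ((m : ℤ) - c)
    let t1 : ℤ := c + t2
    let t0 : ℤ := n + p * t1 - q * t2
    have ht1 : (m : ℤ) ≤ t1 := by simp only [t1, t2]; omega
    have ht0 : (m : ℤ) * p ≤ t0 := by
      have hqp : (p : ℤ) < q := by exact_mod_cast hpq
      rcases le_or_gt (m : ℤ) c with h | h
      · have : t2 = 0 := by simp only [t2]; omega
        simp only [t0, t1, this, mul_zero, add_zero, sub_zero]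
        have : (p : ℤ) * (c - m) ≥ p * ((e1 : ℤ) - e2) := by
          refine mul_le_mul_of_nonneg_left ?_ (by positivity)
          nlinarith
        nlinarith [mul_nonneg (sub_nonneg.2 hqp.le) (Int.natCast_nonneg e2)]
      · have : t2 = (m : ℤ) - c := by simp only [t2]; omega
        simp only [t0, t1, this, add_sub_cancel]
        have h1 : (m : ℤ) - c ≤ (e2 : ℤ) - e1 := by nlinarith
        nlinarith [mul_le_mul_of_nonneg_left h1 (show (0 : ℤ) ≤ q by positivity),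
          mul_nonneg (sub_nonneg.2 hqp.le) (Int.natCast_nonneg e1)]
    obtain ⟨u2, hu2⟩ := Int.eq_ofNat_of_zero_le (show 0 ≤ t2 by simp only [t2]; omega)
    obtain ⟨u1, hu1⟩ := Int.eq_ofNat_of_zero_le (show 0 ≤ t1 - m by omega)
    obtain ⟨u0, hu0⟩ := Int.eq_ofNat_of_zero_le (show 0 ≤ t0 - m * p by omega)
    have h1 := base d0 d1 d2 (u0 + m * p) (u1 + m) u2
      (by
        push_cast
        rw [← hu0, ← hu1, ← hu2]
        simp only [t0]
        ring)
      (by push_cast; rw [← hu1, ← hu2]; simp only [t1]; ring)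
    have h2 := ih (Or.inr hU') u0 u1 u2 e0 e1 e2 (by
        rw [hn, ← hu0, ← hu1, ← hu2]
        simp only [t0]
        ring) (by
        rw [← hu1, ← hu2]
        simp only [t1]
        linarith)
    rw [h1, pow_succ, mul_comm (s ^ k) s, mul_assoc s, ← h2, ← hU']
    ring

/-- Monomials with equal weight below `x^g`, modulo `y^(aq) z^(ap) = s`. -/
theorem exists_shift (p q m : ℕ) (hp : 0 < p) (hpq : p < q) (hcop : Nat.Coprime p q) (hm : 0 < m)
    (d0 d1 d2 e0 e1 e2 : ℕ) (hn : (e0 : ℤ) - p * e1 + q * e2 = (d0 : ℤ) - p * d1 + q * d2)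
    (hc : (m : ℤ) ∣ ((d1 : ℤ) - d2) - ((e1 : ℤ) - e2))
    (hd0 : d0 < Nat.gcd m (q - p)) (he0 : e0 < Nat.gcd m (q - p)) :
    d0 = e0 ∧ ∃ i : ℤ, (e1 : ℤ) = d1 + (m / Nat.gcd m (q - p) * q : ℕ) * i ∧
      (e2 : ℤ) = d2 + (m / Nat.gcd m (q - p) * p : ℕ) * i := by
  set g := Nat.gcd m (q - p) with hg
  have hg0 : 0 < g := Nat.gcd_pos_of_pos_left _ hm
  have hgm : (g : ℤ) ∣ m := by exact_mod_cast Nat.gcd_dvd_left m (q - p)
  have hgq : (g : ℤ) ∣ (q : ℤ) - p := by
    rw [← Nat.cast_sub hpq.le]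
    exact_mod_cast Nat.gcd_dvd_right m (q - p)
  have h0 : (g : ℤ) ∣ (d0 : ℤ) - e0 := by
    have : (d0 : ℤ) - e0 = p * (((d1 : ℤ) - d2) - ((e1 : ℤ) - e2)) - ((q : ℤ) - p) * ((d2 : ℤ) - e2) := by
      linear_combination (-1 : ℤ) * hn
    rw [this]
    exact dvd_sub ((hgm.trans hc).mul_left _) (hgq.mul_right _)
  have h0' : d0 = e0 := by
    have := Int.eq_zero_of_abs_lt_dvd h0 (by rw [abs_lt]; omega)
    omega
  refine ⟨h0', ?_⟩
  subst h0'
  have he : (p : ℤ) * ((e1 : ℤ) - d1) = q * ((e2 : ℤ) - d2) := by linarith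
  have hcopz : IsCoprime (q : ℤ) p := Nat.isCoprime_iff_coprime.2 hcop.symm
  obtain ⟨j, hj⟩ : (q : ℤ) ∣ (e1 : ℤ) - d1 := hcopz.dvd_of_dvd_mul_left ⟨_, he⟩
  have hj2 : (e2 : ℤ) - d2 = p * j := by
    have h1 : (q : ℤ) * ((e2 : ℤ) - d2) = q * (p * j) := by rw [← he, hj]; ring
    exact mul_left_cancel₀ (by exact_mod_cast (hp.trans hpq).ne') h1
  have hcj : (m : ℤ) ∣ ((q : ℤ) - p) * j := by
    have : ((q : ℤ) - p) * j = -((((d1 : ℤ) - d2) - ((e1 : ℤ) - e2))) := by
      linear_combination (-1 : ℤ) * hj + hj2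
    rw [this]
    exact dvd_neg.2 hc
  obtain ⟨a, ha⟩ : g ∣ m := Nat.gcd_dvd_left _ _
  obtain ⟨b, hb⟩ : g ∣ q - p := Nat.gcd_dvd_right _ _
  have hcopab : Nat.Coprime a b := by
    have := Nat.coprime_div_gcd_div_gcd (m := m) (n := q - p) hg0
    rwa [← hg, ha, hb, Nat.mul_div_cancel_left _ hg0, Nat.mul_div_cancel_left _ hg0] at this
  have hma : m / g = a := by rw [ha, Nat.mul_div_cancel_left _ hg0]
  have hqb : ((q : ℤ) - p) = g * b := by rw [← Nat.cast_sub hpq.le, hb]; push_cast; ring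
  rw [hqb, ha, Nat.cast_mul, mul_assoc, mul_dvd_mul_iff_left (by exact_mod_cast hg0.ne')] at hcj
  obtain ⟨i, hi⟩ := (Nat.isCoprime_iff_coprime.2 hcopab).dvd_of_dvd_mul_left hcj
  refine ⟨i, ?_, ?_⟩
  · rw [hma]; push_cast; linear_combination hj + (q : ℤ) * hi
  · rw [hma]; push_cast; linear_combination hj2 + (p : ℤ) * hi

variable {k : Type*} [CommRing k]

/-- Weight of a monomial in three variables. -/
lemma weight_wt3 (p q m : ℕ) (d : Fin 3 →₀ ℕ) :
    Finsupp.weight (wt3 p q m) d =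
      ((d 0 : ℤ) - p * d 1 + q * d 2, (((d 2 : ℤ) - d 1 : ℤ) : ZMod m)) := by
  rw [Finsupp.weight_apply, Finsupp.sum_fintype _ _ (fun i => by simp), Fin.sum_univ_three]
  simp [wt3, Prod.ext_iff]
  constructor <;> ring

/-- Weight of a monomial in five variables. -/
lemma weight_wt5 (p q m : ℕ) (d : Fin 5 →₀ ℕ) :
    Finsupp.weight (wt5 p q m) d =
      ((d 0 : ℤ) - p * (d 1 + d 2 : ℕ) + q * (d 3 + d 4 : ℕ),
        ((((d 3 + d 4 : ℕ) : ℤ) - (d 1 + d 2 : ℕ) : ℤ) : ZMod m)) := by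
  rw [Finsupp.weight_apply, Finsupp.sum_fintype _ _ (fun i => by simp), Fin.sum_univ_five]
  simp [wt5, Prod.ext_iff]
  constructor <;> ring

/-- Equality of weights in three variables. -/
lemma weight_wt3_eq_iff (p q m : ℕ) (d e : Fin 3 →₀ ℕ) :
    Finsupp.weight (wt3 p q m) e = Finsupp.weight (wt3 p q m) d ↔
      (e 0 : ℤ) - p * e 1 + q * e 2 = (d 0 : ℤ) - p * d 1 + q * d 2 ∧
        (m : ℤ) ∣ ((d 1 : ℤ) - d 2) - ((e 1 : ℤ) - e 2) := by
  rw [weight_wt3, weight_wt3, Prod.ext_iff, ZMod.intCast_eq_intCast_iff_dvd_sub]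
  refine and_congr_right fun _ => ?_
  rw [← dvd_neg]
  ring_nf

/-- The three exponents as a finitely supported function. -/
abbrev f3 (a b c : ℕ) : Fin 3 →₀ ℕ :=
  Finsupp.single 0 a + Finsupp.single 1 b + Finsupp.single 2 c

lemma monomial_f3 (a b c : ℕ) :
    monomial (f3 a b c) (1 : k) = X 0 ^ a * X 1 ^ b * X 2 ^ c := by
  simp [X_pow_eq_monomial, monomial_mul]

lemma monomial_eq3 (d : Fin 3 →₀ ℕ) :
    monomial d (1 : k) = X 0 ^ d 0 * X 1 ^ d 1 * X 2 ^ d 2 := by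
  rw [monomial_eq, C_1, one_mul, Finsupp.prod_fintype _ _ (fun i => pow_zero _), Fin.prod_univ_three]

lemma monomial_eq5 (d : Fin 5 →₀ ℕ) :
    monomial d (1 : k) = X 0 ^ d 0 * X 1 ^ d 1 * X 2 ^ d 2 * X 3 ^ d 3 * X 4 ^ d 4 := by
  rw [monomial_eq, C_1, one_mul, Finsupp.prod_fintype _ _ (fun i => pow_zero _), Fin.prod_univ_five]

/-- A homogeneous polynomial lies in a submodule containing the monomials of its weight. -/
lemma mem_of_monomials {σ M : Type*} [AddCommMonoid M] (w : σ → M) {ν : M} {f : MvPolynomial σ k}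
    (hf : f ∈ weightedHomogeneousSubmodule k w ν) (S : Submodule k (MvPolynomial σ k))
    (h : ∀ d, Finsupp.weight w d = ν → monomial d 1 ∈ S) : f ∈ S := by
  rw [as_sum f]
  refine Submodule.sum_mem _ fun d hd => ?_
  rw [show monomial d (coeff d f) = coeff d f • monomial d (1 : k) by
    rw [smul_monomial, smul_eq_mul, mul_one]]
  exact S.smul_mem _ (h d ((mem_weightedHomogeneousSubmodule k w ν f).1 hf (mem_support_iff.1 hd)))

/-- Rank of a weight piece spanned by one vector. -/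
lemma rank_piece_le_one {k : Type*} [Field k] {σ M : Type*} [AddCommMonoid M] (w : σ → M)
    (I : Ideal (MvPolynomial σ k)) (ν : M) (v : MvPolynomial σ k ⧸ I)
    (h : ∀ d, Finsupp.weight w d = ν →
      Ideal.Quotient.mk I (monomial d 1) ∈ Submodule.span k {v}) :
    Module.rank k (piece k w I ν) ≤ 1 := by
  have hle : piece k w I ν ≤ Submodule.span k {v} := by
    rintro _ ⟨f, hf, rfl⟩
    exact mem_of_monomials w hf ((Submodule.span k {v}).comap (Ideal.Quotient.mkₐ k I).toLinearMap) h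
  refine (Submodule.rank_mono hle).trans ((rank_span_le _).trans_eq ?_)
  simp

end Groth.Agent.Lib.InvHilb
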